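import Groth.Prelude.Def_CohCx
import Groth.Agent.CohTopLib.DescExact
import Groth.Agent.SpSeqLib.RightDerivedMV
import Groth.Agent.QCohLib.AbPush

/-!
# Relative Mayer-Vietoris on injective sheaves
-/

set_option autoImplicit false
set_option linter.unusedSectionVars false
set_option linter.style.haveILetI false
set_option backward.isDefEq.respectTransparency false
set_option backward.isDefEq.respectTransparency.types false

universe u
open CategoryTheory CategoryTheory.Limits TopologicalSpace Opposite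

namespace RelMVLib

variable {X Y : TopCat.{u}} (f : X ⟶ Y) (U V : Opens X)

/-- The part over an open of the preimage. -/
abbrev part (W : Opens Y) : Opens X :=
  U.isOpenEmbedding.functor.obj ((Opens.map (CohCx.incl U ≫ f)).obj W)

theorem part_le (W : Opens Y) : part f U W ≤ (Opens.map f).obj W := by
  rintro _ ⟨x, hx, rfl⟩
  exact hx

theorem part_inf_le (W : Opens Y) : part f U W ⊓ part f V W ≤ part f (U ⊓ V) W := by
  rintro _ ⟨⟨a, ha, rfl⟩, ⟨b, _, hb⟩⟩
  exact ⟨⟨a.1, a.2, by
    have hb' : (b.1 : X) = a.1 := hb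
    exact hb' ▸ b.2⟩, ha, rfl⟩

/-- The restrictions agree on the intersection. -/
theorem w (F : CohTop.Ab X) :
    (CohCx.pushToRestrPush f U).app F ≫
        (CohCx.restrPushToRestrPush f (inf_le_left : U ⊓ V ≤ U)).app F =
      (CohCx.pushToRestrPush f V).app F ≫
        (CohCx.restrPushToRestrPush f (inf_le_right : U ⊓ V ≤ V)).app F := by
  refine Sheaf.hom_ext (NatTrans.ext (funext fun W => ?_))
  change F.obj.map _ ≫ F.obj.map _ = F.obj.map _ ≫ F.obj.map _
  rw [← F.obj.map_comp, ← F.obj.map_comp]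
  rfl

theorem biprod_sec_ext {A B : CohTop.Ab Y} {W : Opens Y} {s t : (A ⊞ B).obj.obj (op W)}
    (h1 : (biprod.fst : A ⊞ B ⟶ A).hom.app (op W) s = (biprod.fst : A ⊞ B ⟶ A).hom.app (op W) t)
    (h2 : (biprod.snd : A ⊞ B ⟶ B).hom.app (op W) s = (biprod.snd : A ⊞ B ⟶ B).hom.app (op W) t) : s = t := by
  have e : ∀ s : (A ⊞ B).obj.obj (op W), s =
      (biprod.inl : A ⟶ A ⊞ B).hom.app (op W) ((biprod.fst : A ⊞ B ⟶ A).hom.app (op W) s) +
      (biprod.inr : B ⟶ A ⊞ B).hom.app (op W) ((biprod.snd : A ⊞ B ⟶ B).hom.app (op W) s) := fun s =>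
    (ConcreteCategory.congr_hom (congrArg (fun φ => φ.hom.app (op W)) (biprod.total (X := A) (Y := B))) s).symm
  rw [e s, e t, h1, h2]

theorem desc_app {A B T : CohTop.Ab Y} (g : A ⟶ T) (h : B ⟶ T) (W : Opens Y) (s : (A ⊞ B).obj.obj (op W)) :
    (biprod.desc g h).hom.app (op W) s =
      g.hom.app (op W) ((biprod.fst : A ⊞ B ⟶ A).hom.app (op W) s) +
        h.hom.app (op W) ((biprod.snd : A ⊞ B ⟶ B).hom.app (op W) s) :=
  ConcreteCategory.congr_hom (congrArg (fun φ => φ.hom.app (op W)) (biprod.desc_eq (f := g) (g := h))) s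

/-- The Mayer-Vietoris sequence of an injective sheaf. -/
theorem shortExact (hUV : U ⊔ V = ⊤) (F : CohTop.Ab X) [TopCat.Sheaf.IsFlasque (F : TopCat.Sheaf AddCommGrpCat X)] :
    (ShortComplex.mk
      (biprod.lift ((CohCx.pushToRestrPush f U).app F) ((CohCx.pushToRestrPush f V).app F))
      (biprod.desc ((CohCx.restrPushToRestrPush f (inf_le_left : U ⊓ V ≤ U)).app F)
        (-(CohCx.restrPushToRestrPush f (inf_le_right : U ⊓ V ≤ V)).app F))
      (SpSeqLib.RightDerivedMV.seq_zero (CohCx.pushToRestrPush f U) (CohCx.pushToRestrPush f V)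
        (CohCx.restrPushToRestrPush f (inf_le_left : U ⊓ V ≤ U))
        (CohCx.restrPushToRestrPush f (inf_le_right : U ⊓ V ≤ V)) (w f U V) F)).ShortExact := by
  have hmem : ∀ (U : Opens X) (W : Opens Y) (x : X), f x ∈ W → x ∈ U → x ∈ part f U W := fun U W x h1 h2 =>
    ⟨⟨x, h2⟩, h1, rfl⟩
  let O : Opens Y → ULift.{u} Bool → Opens X := fun W b => if b.down then part f U W else part f V W
  have hcov : ∀ W, (Opens.map f).obj W ≤ iSup (O W) := fun W x hx => by
    rcases (show x ∈ U ⊔ V from hUV ▸ trivial) with h | h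
    · exact Opens.mem_iSup.mpr ⟨⟨true⟩, hmem U W x hx h⟩
    · exact Opens.mem_iSup.mpr ⟨⟨false⟩, hmem V W x hx h⟩
  have hle : ∀ W b, O W b ≤ (Opens.map f).obj W := fun W b => by
    rcases b with ⟨_ | _⟩
    · exact part_le f V W
    · exact part_le f U W
  let A := (CohTop.restrFunctor U ⋙ CohTop.push (CohCx.incl U ≫ f)).obj F
  let B := (CohTop.restrFunctor V ⋙ CohTop.push (CohCx.incl V ≫ f)).obj F
  let p₁ : A ⊞ B ⟶ A := biprod.fst
  let p₂ : A ⊞ B ⟶ B := biprod.snd
  refine { exact := ?_, mono_f := ?_, epi_g := ?_ }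
  · refine CohTopLib.DescExact.exact_of_local _ fun W x hx s hs => ?_
    let a : F.obj.obj (op (part f U W)) := p₁.hom.app (op W) s
    let b : F.obj.obj (op (part f V W)) := p₂.hom.app (op W) s
    let σ : ∀ c, F.obj.obj (op (O W c)) := fun c =>
      match c with
      | ⟨true⟩ => a
      | ⟨false⟩ => b
    have hs' := (desc_app _ _ W s).symm.trans hs
    have hab : ∀ (x : X) (h1 : x ∈ part f U W) (h2 : x ∈ part f V W),
        TopCat.Presheaf.germ (X := X) F.obj _ x h1 a = TopCat.Presheaf.germ (X := X) F.obj _ x h2 b := fun x h1 h2 => by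
      have h : F.obj.map (homOfLE (show part f (U ⊓ V) W ≤ part f U W by
            rintro _ ⟨z, hz, rfl⟩; exact hmem U W _ hz z.2.1)).op a =
          F.obj.map (homOfLE (show part f (U ⊓ V) W ≤ part f V W by
            rintro _ ⟨z, hz, rfl⟩; exact hmem V W _ hz z.2.2)).op b :=
        sub_eq_zero.mp ((sub_eq_add_neg _ _).trans (Eq.trans rfl hs'))
      have hx' := part_inf_le f U V W ⟨h1, h2⟩
      exact (TopCat.Presheaf.germ_res_apply (X := X) F.obj _ x hx' a).symm.trans
        ((congrArg (TopCat.Presheaf.germ (X := X) F.obj _ x hx') h).trans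
          (TopCat.Presheaf.germ_res_apply (X := X) F.obj _ x hx' b))
    obtain ⟨t, ht, -⟩ := TopCat.Sheaf.existsUnique_gluing' (F : TopCat.Sheaf AddCommGrpCat X) (O W)
      ((Opens.map f).obj W) (fun c => homOfLE (hle W c)) (hcov W) σ (fun c d => by
        refine TopCat.Presheaf.section_ext (F : TopCat.Sheaf AddCommGrpCat X) _ _ _ fun y hy => ?_
        refine (TopCat.Presheaf.germ_res_apply (X := X) F.obj _ y hy (σ c)).trans
          (Eq.trans ?_ (TopCat.Presheaf.germ_res_apply (X := X) F.obj _ y hy (σ d)).symm)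
        rcases c with ⟨_ | _⟩ <;> rcases d with ⟨_ | _⟩
        · rfl
        · exact (hab y hy.2 hy.1).symm
        · exact hab y hy.1 hy.2
        · rfl)
    refine ⟨W, le_rfl, t, hx, ?_⟩
    rw [show (homOfLE (le_refl W)).op = 𝟙 (op W) from Subsingleton.elim _ _, CategoryTheory.Functor.map_id]
    refine biprod_sec_ext (A := A) (B := B) ?_ ?_
    · change p₁.hom.app (op W) ((biprod.lift ((CohCx.pushToRestrPush f U).app F) ((CohCx.pushToRestrPush f V).app F)).hom.app (op W) t) = a
      refine Eq.trans ?_ (ht ⟨true⟩)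
      exact ConcreteCategory.congr_hom (congrArg (fun φ => φ.hom.app (op W)) (biprod.lift_fst
        ((CohCx.pushToRestrPush f U).app F) ((CohCx.pushToRestrPush f V).app F))) t
    · change p₂.hom.app (op W) ((biprod.lift ((CohCx.pushToRestrPush f U).app F) ((CohCx.pushToRestrPush f V).app F)).hom.app (op W) t) = b
      refine Eq.trans ?_ (ht ⟨false⟩)
      exact ConcreteCategory.congr_hom (congrArg (fun φ => φ.hom.app (op W)) (biprod.lift_snd
        ((CohCx.pushToRestrPush f U).app F) ((CohCx.pushToRestrPush f V).app F))) t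
  · refine Functor.mono_of_mono_map (sheafToPresheaf _ _) ?_
    refine @NatTrans.mono_of_mono_app _ _ _ _ _ _ _ fun W => ?_
    refine (AddCommGrpCat.mono_iff_injective _).mpr fun s t hst => ?_
    have h1 := congrArg (p₁.hom.app W) hst
    have h2 := congrArg (p₂.hom.app W) hst
    have e1 := fun r => ConcreteCategory.congr_hom (congrArg (fun φ => φ.hom.app W) (biprod.lift_fst
      ((CohCx.pushToRestrPush f U).app F) ((CohCx.pushToRestrPush f V).app F))) r
    have e2 := fun r => ConcreteCategory.congr_hom (congrArg (fun φ => φ.hom.app W) (biprod.lift_snd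
      ((CohCx.pushToRestrPush f U).app F) ((CohCx.pushToRestrPush f V).app F))) r
    have h1' := ((e1 s).symm.trans h1).trans (e1 t)
    have h2' := ((e2 s).symm.trans h2).trans (e2 t)
    refine TopCat.Presheaf.section_ext (F : TopCat.Sheaf AddCommGrpCat X) _ _ _ fun x hx => ?_
    rcases (show x ∈ U ⊔ V from hUV ▸ trivial) with h | h
    · have hx' := hmem U W.unop x hx h
      exact (TopCat.Presheaf.germ_res_apply (X := X) F.obj (homOfLE (part_le f U W.unop)) x hx' s).symm.trans
        ((congrArg (TopCat.Presheaf.germ (X := X) F.obj _ x hx') h1').trans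
          (TopCat.Presheaf.germ_res_apply (X := X) F.obj (homOfLE (part_le f U W.unop)) x hx' t))
    · have hx' := hmem V W.unop x hx h
      exact (TopCat.Presheaf.germ_res_apply (X := X) F.obj (homOfLE (part_le f V W.unop)) x hx' s).symm.trans
        ((congrArg (TopCat.Presheaf.germ (X := X) F.obj _ x hx') h2').trans
          (TopCat.Presheaf.germ_res_apply (X := X) F.obj (homOfLE (part_le f V W.unop)) x hx' t))
  · haveI : Epi ((CohCx.restrPushToRestrPush f (inf_le_left : U ⊓ V ≤ U)).app F) := by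
      refine Functor.epi_of_epi_map (sheafToPresheaf _ _) ?_
      exact @NatTrans.epi_of_epi_app _ _ _ _ _ _ _ fun W =>
        (‹TopCat.Sheaf.IsFlasque (F : TopCat.Sheaf AddCommGrpCat X)›).epi _
    exact @epi_of_epi_fac _ _ _ _ _ biprod.inl _ _ inferInstance (biprod.inl_desc
      ((CohCx.restrPushToRestrPush f (inf_le_left : U ⊓ V ≤ U)).app F)
      (-(CohCx.restrPushToRestrPush f (inf_le_right : U ⊓ V ≤ V)).app F))

end RelMVLib
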